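import Mathlib
import Cfsg.Agent.Lib.Helper50.FOT.Defs

/-!
# Project FOT (S3999): package [SYL6]

A finite solvable group never has exactly six Sylow 5-subgroups.  Induction on the order: for a
nontrivial normal `q`-subgroup `A`, the quotient has `1` or `6` Sylow 5-subgroups; in the first
case all Sylow 5-subgroups of `H` lie in `A P` and form one `A`-orbit, of `q`-power size.
-/

set_option autoImplicit false

namespace Cfsg.Agent.Lib.Helper90.FOT

open scoped Pointwise

universe u

/-- a nontrivial finite solvable group has a nontrivial normal `p`-subgroup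
(as in `Helper81.exists_normal_pgroup`, copied to keep the import closure small) -/
theorem fot_exists_normal_pgroup (X : Type u) [Group X] [Finite X] (hs : Group.IsSolvable X)
    [Nontrivial X] :
    ∃ (p : ℕ) (P : Subgroup X), p.Prime ∧ P.Normal ∧ IsPGroup p P ∧ P ≠ ⊥ := by
  classical
  have hex : ∃ n, derivedSeries X n = ⊥ := hs.solvable
  have h0 : Nat.find hex ≠ 0 := by
    intro h
    have h1 := Nat.find_spec hex
    rw [h, derivedSeries_zero] at h1
    exact top_ne_bot h1
  obtain ⟨n, hn⟩ := Nat.exists_eq_succ_of_ne_zero h0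
  have hD : derivedSeries X n ≠ ⊥ := by
    intro h
    have := Nat.find_min' hex h
    omega
  have hDD : ⁅derivedSeries X n, derivedSeries X n⁆ = ⊥ := by
    have h1 := Nat.find_spec hex
    rw [hn] at h1
    exact h1
  have hcomm : ∀ x ∈ derivedSeries X n, ∀ y ∈ derivedSeries X n, Commute x y := by
    intro x hx y hy
    have h1 := (Subgroup.commutator_eq_bot_iff_le_centralizer).1 hDD hx
    exact (Subgroup.mem_centralizer_iff.1 h1 y hy).symm
  haveI : Nontrivial (derivedSeries X n) := (Subgroup.nontrivial_iff_ne_bot _).2 hD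
  have hcard : Nat.card (derivedSeries X n) ≠ 1 := by
    intro h
    exact hD (Subgroup.card_eq_one.1 h)
  obtain ⟨p, hp, hpd⟩ := Nat.exists_prime_and_dvd hcard
  haveI : Fact p.Prime := ⟨hp⟩
  obtain ⟨x, hx⟩ := exists_prime_orderOf_dvd_card' p hpd
  haveI hDn : (derivedSeries X n).Normal := derivedSeries_normal X n
  let P : Subgroup X :=
    { carrier := {y | y ∈ derivedSeries X n ∧ ∃ k : ℕ, y ^ (p ^ k) = 1}
      mul_mem' := by
        rintro a b ⟨ha, k, hk⟩ ⟨hb, l, hl⟩
        refine ⟨mul_mem ha hb, k + l, ?_⟩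
        rw [(hcomm a ha b hb).mul_pow, pow_add, pow_mul, hk, one_pow, mul_comm (p ^ k),
          pow_mul, hl, one_pow, one_mul]
      one_mem' := ⟨one_mem _, 0, one_pow _⟩
      inv_mem' := by
        rintro a ⟨ha, k, hk⟩
        exact ⟨inv_mem ha, k, by rw [inv_pow, hk, inv_one]⟩ }
  refine ⟨p, P, hp, ⟨?_⟩, ?_, ?_⟩
  · rintro a ⟨ha, k, hk⟩ g
    refine ⟨hDn.conj_mem a ha g, k, ?_⟩
    rw [conj_pow, hk, mul_one, mul_inv_cancel]
  · rintro ⟨a, ha, k, hk⟩
    exact ⟨k, Subtype.ext hk⟩
  · intro hbot
    have hxP : (x : X) ∈ P := by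
      refine ⟨x.2, 1, ?_⟩
      rw [pow_one, ← Subgroup.coe_pow, ← hx, pow_orderOf_eq_one]
      rfl
    rw [hbot, Subgroup.mem_bot] at hxP
    have hx1 : x = 1 := Subtype.ext hxP
    rw [hx1, orderOf_one] at hx
    exact hp.one_lt.ne hx

theorem syl6_aux : ∀ n : ℕ, ∀ (H : Type u) [Group H] [Finite H], Group.IsSolvable H →
    Nat.card H = n → Nat.card (Sylow 5 H) ≠ 6 := by
  intro n
  induction n using Nat.strong_induction_on with
  | _ n ih =>
    intro H _ _ hsol hn h6
    haveI : Fact (Nat.Prime 5) := ⟨by norm_num⟩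
    haveI := hsol
    obtain ⟨P⟩ : Nonempty (Sylow 5 H) := inferInstance
    have hdvd : Nat.card (Sylow 5 H) ∣ Nat.card H :=
      (P.card_dvd_index).trans (Subgroup.index_dvd_card _)
    haveI : Nontrivial H := by
      rw [← Finite.one_lt_card_iff_nontrivial]
      by_contra hlt
      have h1 : Nat.card H = 1 := by
        have := Nat.card_pos (α := H)
        omega
      rw [h1, h6] at hdvd
      norm_num at hdvd
    obtain ⟨q, A, hq, hAn, hAq, hAne⟩ := fot_exists_normal_pgroup H hsol
    haveI := hAn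
    haveI : Fact q.Prime := ⟨hq⟩
    have hπ : Function.Surjective (QuotientGroup.mk' A) := QuotientGroup.mk'_surjective A
    have hlt : Nat.card (H ⧸ A) < n := by
      have h1 := A.card_mul_index
      rw [hn] at h1
      have h2 : 1 < Nat.card A := A.one_lt_card_iff_ne_bot.mpr hAne
      rw [← Subgroup.index_eq_card]
      have h3 : 0 < A.index := Nat.pos_of_ne_zero Subgroup.index_ne_zero_of_finite
      nlinarith
    have hquot : Nat.card (Sylow 5 (H ⧸ A)) ≠ 6 := ih _ hlt (H ⧸ A) inferInstance rfl
    have hle : Nat.card (Sylow 5 (H ⧸ A)) ≤ Nat.card (Sylow 5 H) :=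
      Nat.card_le_card_of_surjective _ (Sylow.mapSurjective_surjective hπ 5)
    have hmod : Nat.card (Sylow 5 (H ⧸ A)) ≡ 1 [MOD 5] := card_sylow_modEq_one 5 (H ⧸ A)
    have hone : Nat.card (Sylow 5 (H ⧸ A)) = 1 := by
      rw [h6] at hle
      unfold Nat.ModEq at hmod
      omega
    -- all Sylow 5-subgroups lie in `A P`
    have hsub : ∀ P' : Sylow 5 H, (P' : Subgroup H) ≤ A ⊔ (P : Subgroup H) := by
      intro P'
      have h1 : P'.mapSurjective hπ = P.mapSurjective hπ := by
        haveI : Subsingleton (Sylow 5 (H ⧸ A)) := (Nat.card_eq_one_iff_unique.mp hone).1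
        exact Subsingleton.elim _ _
      have h2 : (P' : Subgroup H).map (QuotientGroup.mk' A) =
          (P : Subgroup H).map (QuotientGroup.mk' A) := by
        have := congrArg (fun S : Sylow 5 (H ⧸ A) => (S : Subgroup (H ⧸ A))) h1
        simpa using this
      calc (P' : Subgroup H)
          ≤ ((P' : Subgroup H).map (QuotientGroup.mk' A)).comap (QuotientGroup.mk' A) :=
            Subgroup.le_comap_map _ _
        _ = ((P : Subgroup H).map (QuotientGroup.mk' A)).comap (QuotientGroup.mk' A) := by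
            rw [h2]
        _ = (P : Subgroup H) ⊔ A := by rw [Subgroup.comap_map_eq, QuotientGroup.ker_mk']
        _ = A ⊔ (P : Subgroup H) := sup_comm _ _
    -- they form a single `A`-orbit
    have horb : ∀ P' : Sylow 5 H, ∃ a : A, a • P = P' := by
      intro P'
      have h1 : (P : Subgroup H) ≤ A ⊔ (P : Subgroup H) := le_sup_right
      obtain ⟨h, hh⟩ := MulAction.exists_smul_eq (↥(A ⊔ (P : Subgroup H))) (P.subtype h1)
        (P'.subtype (hsub P'))
      rw [Sylow.smul_subtype] at hh
      have h3 : h • P = P' := Sylow.subtype_injective hh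
      obtain ⟨y, hy, z, hz, hyz⟩ := Subgroup.mem_sup_of_normal_left.mp h.2
      refine ⟨⟨y, hy⟩, ?_⟩
      have h4 : z • P = P := Sylow.smul_eq_iff_mem_normalizer.mpr (Subgroup.le_normalizer hz)
      have h5 : h • P = (y * z) • P := by
        rw [hyz]
        rfl
      rw [← h3, h5, mul_smul, h4]
      rfl
    have hcard : Nat.card (MulAction.orbit A P) * Nat.card (MulAction.stabilizer A P) =
        Nat.card A := by
      rw [← Nat.card_prod]
      exact Nat.card_congr (MulAction.orbitProdStabilizerEquivGroup A P)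
    have horb' : MulAction.orbit A P = Set.univ := by
      ext P'
      simp only [Set.mem_univ, iff_true]
      obtain ⟨a, ha⟩ := horb P'
      exact ⟨a, ha⟩
    have h7 : Nat.card (MulAction.orbit A P) = 6 := by
      rw [horb', Nat.card_congr (Equiv.Set.univ _), h6]
    obtain ⟨m, hm⟩ := hAq.exists_card_eq
    rw [h7, hm] at hcard
    have d2 : 2 ∣ q ^ m := ⟨3 * Nat.card (MulAction.stabilizer A P), by rw [← hcard]; ring⟩
    have d3 : 3 ∣ q ^ m := ⟨2 * Nat.card (MulAction.stabilizer A P), by rw [← hcard]; ring⟩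
    have e2 : 2 = q := (Nat.prime_dvd_prime_iff_eq Nat.prime_two hq).mp
      (Nat.prime_two.dvd_of_dvd_pow d2)
    have e3 : 3 = q := (Nat.prime_dvd_prime_iff_eq Nat.prime_three hq).mp
      (Nat.prime_three.dvd_of_dvd_pow d3)
    omega

/-- [SYL6] a finite solvable group never has exactly six Sylow 5-subgroups. -/
theorem pkgSyl6 : Cfsg.Agent.Lib.Helper50.FOT.PkgSyl6.{u} := by
  intro H _ _ hsol
  exact syl6_aux _ H hsol rfl

end Cfsg.Agent.Lib.Helper90.FOT
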